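import Groth.Prelude.Def_ConstAct2
import Groth.Prelude.Def_Hoch

/-! Actions of a constant group scheme = actions of the group. -/

set_option autoImplicit false
universe u

noncomputable section

open TensorProduct

namespace Groth.Agent.CA97

variable (R : Type u) [CommRing R] (B : Type u) [CommRing B] [Algebra R B] (Γ : Type u)

/-- evaluation at a group element -/
def comp (g : Γ) : B ⊗[R] ConstGrp.F R Γ →ₐ[R] B :=
  Algebra.TensorProduct.lift (AlgHom.id R B) ((Algebra.ofId R B).comp (ConstGrp.ev R g)) fun _ _ => .all _ _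

theorem comp_tmul (g : Γ) (b : B) (f : ConstGrp.F R Γ) : comp R B Γ g (b ⊗ₜ f) = f g • b := by
  rw [comp, Algebra.TensorProduct.lift_tmul, AlgHom.id_apply, Algebra.smul_def, mul_comm]
  rfl

variable [Fintype Γ] [DecidableEq Γ]

theorem comp_e (g h : Γ) (b : B) : comp R B Γ g (b ⊗ₜ ConstGrp.e R h) = if g = h then b else 0 := by
  rw [comp_tmul, ConstGrp.e_apply]
  split_ifs <;> simp

theorem sum_comp (z : B ⊗[R] ConstGrp.F R Γ) : z = ∑ g, comp R B Γ g z ⊗ₜ ConstGrp.e R g := by
  induction z using TensorProduct.induction_on with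
  | zero => simp
  | add u v hu hv => simp only [map_add, TensorProduct.add_tmul, Finset.sum_add_distrib, ← hu, ← hv]
  | tmul b f =>
    simp only [comp_tmul, TensorProduct.smul_tmul, ← TensorProduct.tmul_sum]
    rw [← ConstGrp.eq_sum_smul_e f]

theorem ext_comp {y z : B ⊗[R] ConstGrp.F R Γ} (h : ∀ g, comp R B Γ g y = comp R B Γ g z) : y = z := by
  rw [sum_comp R B Γ y, sum_comp R B Γ z, Finset.sum_congr rfl fun g _ => by rw [h g]]

variable [Group Γ]

theorem comp_coactLin [MulSemiringAction Γ B] [SMulCommClass Γ R B] (g : Γ) (b : B) :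
    comp R B Γ g (ConstAct.coactLin R B Γ b) = g • b := by
  rw [ConstAct.coactLin_apply, map_sum]
  simp only [comp_e, Finset.sum_ite_eq, Finset.mem_univ, if_true]

variable [HopfRep.Comod R (ConstGrp.F R Γ) B]

/-- the automorphism of index `g` of a coaction -/
def act (g : Γ) : B →ₗ[R] B :=
  (comp R B Γ g).toLinearMap ∘ₗ HopfRep.Comod.coact (k := R) (A := ConstGrp.F R Γ) (V := B)

theorem coact_eq (b : B) :
    HopfRep.Comod.coact (k := R) (A := ConstGrp.F R Γ) (V := B) b = ∑ g, act R B Γ g b ⊗ₜ ConstGrp.e R g :=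
  sum_comp R B Γ _

theorem act_one (b : B) : act R B Γ 1 b = b := by
  have h := LinearMap.congr_fun (HopfRep.Comod.counit_comp (k := R) (A := ConstGrp.F R Γ) (V := B)) b
  rw [LinearMap.comp_apply, coact_eq, map_sum] at h
  simp only [LinearMap.lTensor_tmul, ConstGrp.counit_e, TensorProduct.tmul_ite, Finset.sum_ite_eq,
    Finset.mem_univ, if_true, LinearMap.flip_apply, TensorProduct.mk_apply] at h
  have h2 := congrArg (TensorProduct.rid R B) h
  simpa using h2

/-- `b ⊗ (f ⊗ f') ↦ f g * f' h • b` -/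
def comp₂ (g h : Γ) : B ⊗[R] (ConstGrp.F R Γ ⊗[R] ConstGrp.F R Γ) →ₗ[R] B :=
  (comp R B Γ g).toLinearMap ∘ₗ
    ((TensorProduct.rid R (ConstGrp.F R Γ)).toLinearMap ∘ₗ (ConstGrp.ev R h).toLinearMap.lTensor _).lTensor B

theorem comp₂_e (g h a c : Γ) (b : B) :
    comp₂ R B Γ g h (b ⊗ₜ (ConstGrp.e R a ⊗ₜ ConstGrp.e R c)) = if g = a ∧ h = c then b else 0 := by
  simp only [comp₂, LinearMap.comp_apply, LinearMap.lTensor_tmul, LinearEquiv.coe_coe, TensorProduct.rid_tmul,
    AlgHom.toLinearMap_apply, ConstGrp.ev_apply, ConstGrp.e_apply, TensorProduct.tmul_smul, map_smul, comp_e]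
  split_ifs <;> simp_all

theorem act_mul (g h : Γ) (b : B) : act R B Γ (g * h) b = act R B Γ g (act R B Γ h b) := by
  have hh := LinearMap.congr_fun (HopfRep.Comod.coassoc (k := R) (A := ConstGrp.F R Γ) (V := B)) b
  simp only [LinearMap.comp_apply, LinearEquiv.coe_coe, coact_eq, map_sum, LinearMap.rTensor_tmul,
    LinearMap.lTensor_tmul, TensorProduct.sum_tmul, TensorProduct.assoc_tmul, ConstGrp.comul_e,
    TensorProduct.tmul_sum] at hh
  have h3 := congrArg (comp₂ R B Γ g h) hh
  simp only [map_sum, comp₂_e, ite_and, Finset.sum_ite_eq, Finset.mem_univ, if_true] at h3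
  refine Eq.symm (h3.trans ?_)
  rw [Finset.sum_eq_single (g * h)]
  · rw [inv_mul_cancel_left, if_pos rfl]
  · intro j _ hj
    rw [if_neg]
    intro e
    exact hj (by rw [e, mul_inv_cancel_left])
  · simp

variable [GLin.IsCoactAlg R (ConstGrp.F R Γ) B]

theorem act_mul' (g : Γ) (a b : B) : act R B Γ g (a * b) = act R B Γ g a * act R B Γ g b := by
  simp only [act, LinearMap.comp_apply, AlgHom.toLinearMap_apply, GLin.IsCoactAlg.coact_mul, map_mul]

theorem act_one' (g : Γ) : act R B Γ g 1 = 1 := by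
  simp only [act, LinearMap.comp_apply, AlgHom.toLinearMap_apply, GLin.IsCoactAlg.coact_one, map_one]

/-- the action attached to a coaction -/
@[reducible] def action : MulSemiringAction Γ B where
  smul g b := act R B Γ g b
  mul_smul g h b := act_mul R B Γ g h b
  one_smul b := act_one R B Γ b
  smul_zero g := map_zero (act R B Γ g)
  smul_add g := map_add (act R B Γ g)
  smul_one g := act_one' R B Γ g
  smul_mul g := act_mul' R B Γ g

theorem existsUnique_action :
    ∃! a : MulSemiringAction Γ B, ∃ _ : SMulCommClass Γ R B,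
      ConstAct.coactLin R B Γ = HopfRep.Comod.coact (k := R) (A := ConstGrp.F R Γ) (V := B) ∧
        GLin.invariants R (ConstGrp.F R Γ) B = ConstAct.inv R B Γ := by
  refine ⟨action R B Γ, ?_, ?_⟩
  · letI := action R B Γ
    haveI : SMulCommClass Γ R B := ⟨fun g r b => map_smul (act R B Γ g) r b⟩
    refine ⟨inferInstance, ?_, ?_⟩
    · refine LinearMap.ext fun b => ext_comp R B Γ fun g => ?_
      rw [comp_coactLin]; rfl
    · ext b
      rw [GLin.mem_invariants_iff, ConstAct.mem_inv]
      constructor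
      · intro h g
        show comp R B Γ g (HopfRep.Comod.coact (k := R) (A := ConstGrp.F R Γ) b) = b
        rw [h, comp_tmul, ConstGrp.one_apply, one_smul]
      · intro h
        refine ext_comp R B Γ fun g => ?_
        rw [comp_tmul, ConstGrp.one_apply, one_smul]
        exact h g
  · rintro a ⟨hc, he, -⟩
    have hs : ∀ (g : Γ) (b : B), a.smul g b = act R B Γ g b := fun g b => by
      have := comp_coactLin R B Γ g b
      rw [he] at this
      exact this.symm
    clear he hc
    cases a with
    | @mk D h1 h2 => cases D with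
      | @mk M h3 h4 => cases M with
        | @mk S h5 => cases S with
          | @mk T h6 => cases T with
            | @mk s =>
              obtain rfl : s = fun g b => act R B Γ g b := funext fun g => funext (hs g)
              rfl

end Groth.Agent.CA97

namespace Groth.Agent.CA97

variable (R : Type u) [CommRing R] (B : Type u) [CommRing B] [Algebra R B] (Γ : Type u)
  [Fintype Γ] [DecidableEq Γ] [Group Γ] [MulSemiringAction Γ B] [SMulCommClass Γ R B]

theorem totalIntegral_iff :
    letI := ConstAct.comod R B Γ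
    (∃ α : ConstGrp.F R Γ →ₗ[R] B, Hoch.IsComodHom (ConstGrp.F R Γ) α ∧ α 1 = 1) ↔
      ∀ c : B, c ∈ ConstAct.inv R B Γ → ∃ b : B, ∑ γ : Γ, γ • b = c := by
  letI := ConstAct.comod R B Γ
  have key : ∀ α : ConstGrp.F R Γ →ₗ[R] B, Hoch.IsComodHom (ConstGrp.F R Γ) α ↔
      ∀ g h : Γ, g • α (ConstGrp.e R h) = α (ConstGrp.e R (h * g⁻¹)) := by
    intro α
    have e : ∀ g h, comp R B Γ g ((α.rTensor (ConstGrp.F R Γ) ∘ₗ
        HopfRep.Comod.coact (k := R) (A := ConstGrp.F R Γ) (V := ConstGrp.F R Γ)) (ConstGrp.e R h)) =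
          α (ConstGrp.e R (h * g⁻¹)) := by
      intro g h
      show comp R B Γ g (α.rTensor _ (CoalgebraStruct.comul (R := R) (ConstGrp.e R h))) = _
      rw [ConstGrp.comul_e, map_sum, map_sum]
      simp only [LinearMap.rTensor_tmul, comp_e]
      rw [Finset.sum_eq_single (h * g⁻¹)]
      · rw [if_pos]; group
      · intro j _ hj
        rw [if_neg]
        intro e
        exact hj (by rw [e]; group)
      · simp
    constructor
    · intro hα g h
      rw [← e g h, ← comp_coactLin R B Γ g (α (ConstGrp.e R h))]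
      exact congrArg (comp R B Γ g) (LinearMap.congr_fun hα (ConstGrp.e R h))
    · intro hα
      refine ConstGrp.linearMap_ext fun h => ext_comp R B Γ fun g => ?_
      rw [e g h, ← hα g h]
      exact comp_coactLin R B Γ g _
  constructor
  · rintro ⟨α, hα, h1⟩ c hc
    have h := (key α).1 hα
    refine ⟨c * α (ConstGrp.e R 1), ?_⟩
    rw [← ConstGrp.sum_e, map_sum] at h1
    simp only [smul_mul', (ConstAct.mem_inv R B Γ c).1 hc, h, one_mul]
    rw [← Finset.mul_sum, Fintype.sum_equiv (Equiv.inv Γ) (fun g => α (ConstGrp.e R g⁻¹))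
      (fun g => α (ConstGrp.e R g)) fun g => rfl, h1, mul_one]
  · intro h
    obtain ⟨b, hb⟩ := h 1 (one_mem _)
    let α : ConstGrp.F R Γ →ₗ[R] B := (ConstGrp.basis R Γ).constr R fun g => g⁻¹ • b
    have he : ∀ g, α (ConstGrp.e R g) = g⁻¹ • b := fun g => by
      rw [← ConstGrp.basis_apply, Module.Basis.constr_basis]
    refine ⟨α, (key α).2 fun g h => ?_, ?_⟩
    · rw [he, he, mul_inv_rev, inv_inv, mul_smul]
    · rw [← ConstGrp.sum_e, map_sum, ← hb]
      simp only [he]
      exact Fintype.sum_equiv (Equiv.inv Γ) _ _ fun g => rfl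

end Groth.Agent.CA97
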